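import Groth.Prelude.Def_StMap
import Groth.Prelude.Def_StCurv2
import Groth.Agent.AlgSt.K750.Cone
import Groth.Agent.AlgSt.K747.Top
import Groth.Agent.Stk.K751.FF
import Groth.Agent.CurvSt.K901.SubStack

/-!
# Families of maps: fibred in groupoids, morphisms glue

* `bc A f`, `bcHom A f` : base change of a family with a map to `X`.
* `isFibGrpd_mapFam`, `isPrestack_mapFam` : for every subcanonical topology on `Over S`.
* `IsStableMapFam.baseChange`, `IsFibDeg.baseChange` : for cartesian squares with compatible sections and maps.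
* `isFibGrpd_mapSt`, `isPrestack_mapSt`, `isPrestack_mapsThrough`.
-/

set_option autoImplicit false
set_option backward.isDefEq.respectTransparency false
set_option backward.isDefEq.respectTransparency.types false

universe u

open CategoryTheory CategoryTheory.Limits AlgebraicGeometry
open K750.Fam K750.Cone

namespace K655.MapPre

variable {S : Scheme.{u}} {n : ℕ} {X : Over S}

/-! ### base change -/

/-- the base change of a family with a map -/
noncomputable def bc (A : StMap.MapFamObj S n X) {V : Over S} (f : V ⟶ A.base) : StMap.MapFamObj S n X where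
  base := V
  C := pullback A.f f.left
  f := pullback.snd A.f f.left
  sect i := pullback.lift (f.left ≫ A.sect i) (𝟙 _) (by
    rw [Category.assoc, A.sect_f, Category.comp_id, Category.id_comp])
  sect_f i := pullback.lift_snd _ _ _
  map := pullback.fst A.f f.left ≫ A.map
  map_over := by
    rw [Category.assoc, A.map_over, ← Category.assoc, pullback.condition, Category.assoc, Over.w f]

/-- the projection from the base change -/
noncomputable def bcHom (A : StMap.MapFamObj S n X) {V : Over S} (f : V ⟶ A.base) : bc A f ⟶ A where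
  hom :=
    { base := f
      top := pullback.fst A.f f.left
      cart := IsPullback.of_hasPullback _ _
      w_sect := fun i => pullback.lift_fst _ _ _ }
  w_map := rfl

theorem mapFam_hom_ext {A B : StMap.MapFamObj S n X} {φ ψ : A ⟶ B} (h₁ : φ.hom.base = ψ.hom.base)
    (h₂ : φ.hom.top = ψ.hom.top) : φ = ψ :=
  StMap.MapFamObj.hom_ext (CurvSt.PtFamObj.hom_ext h₁ h₂)

/-- Factorization through an arrow. -/
theorem existsUnique_fac {A B A' : StMap.MapFamObj S n X} (φ : A ⟶ B) (g : A'.base ⟶ A.base) (ψ : A' ⟶ B)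
    (hb : g ≫ φ.hom.base = ψ.hom.base) : ∃! χ : A' ⟶ A, χ.hom.base = g ∧ χ ≫ φ = ψ := by
  have hbb : g.left ≫ φ.hom.base.left = ψ.hom.base.left := congrArg CommaMorphism.left hb
  have hw : ψ.hom.top ≫ B.f = (A'.f ≫ g.left) ≫ φ.hom.base.left := by
    rw [ψ.hom.cart.w, Category.assoc, hbb]
  let t : A'.C ⟶ A.C := φ.hom.cart.lift ψ.hom.top (A'.f ≫ g.left) hw
  have ht1 : t ≫ φ.hom.top = ψ.hom.top := φ.hom.cart.lift_fst _ _ _
  have ht2 : t ≫ A.f = A'.f ≫ g.left := φ.hom.cart.lift_snd _ _ _
  let χ : A' ⟶ A :=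
    { hom :=
        { base := g
          top := t
          cart := by
            apply IsPullback.of_right (h₁₂ := φ.hom.top) (h₂₂ := φ.hom.base.left) (v₁₃ := B.f) _ ht2 φ.hom.cart
            rw [ht1, hbb]
            exact ψ.hom.cart
          w_sect := fun i => by
            apply φ.hom.cart.hom_ext
            · rw [Category.assoc, ht1, ψ.hom.w_sect, Category.assoc, φ.hom.w_sect, ← Category.assoc, hbb]
            · rw [Category.assoc, ht2, ← Category.assoc, A'.sect_f, Category.id_comp, Category.assoc, A.sect_f,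
                Category.comp_id] }
      w_map := by
        change t ≫ A.map = A'.map
        rw [← φ.w_map, ← Category.assoc, ht1, ψ.w_map] }
  refine ⟨χ, ⟨rfl, mapFam_hom_ext hb ht1⟩, ?_⟩
  rintro χ' ⟨hχ', h2⟩
  refine mapFam_hom_ext hχ' ?_
  apply φ.hom.cart.hom_ext
  · rw [ht1, ← h2]; rfl
  · rw [χ'.hom.cart.w, ht2, hχ']

theorem isFibGrpd_mapFam : FibCat.IsFibGrpd (StMap.MapFamObj.forget S n X) where
  exists_lift := fun {x} {V} f => ⟨bc x f, bcHom x f, IsHomLift.map (StMap.MapFamObj.forget S n X) (bcHom x f)⟩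
  isStronglyCartesian := fun {A B} φ =>
    { universal_property' := fun {A'} g ψ hψ => by
        have hb : g ≫ φ.hom.base = ψ.hom.base :=
          IsHomLift.eq_of_isHomLift (StMap.MapFamObj.forget S n X) (g ≫ (StMap.MapFamObj.forget S n X).map φ) ψ
        obtain ⟨χ, ⟨h1, h2⟩, h3⟩ := existsUnique_fac φ g ψ hb
        refine ⟨χ, ⟨?_, h2⟩, ?_⟩
        · subst h1
          exact IsHomLift.map (StMap.MapFamObj.forget S n X) χ
        · rintro χ' ⟨hχ', h4⟩
          have hg : g = χ'.hom.base := IsHomLift.eq_of_isHomLift (StMap.MapFamObj.forget S n X) g χ'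
          exact h3 χ' ⟨hg.symm, h4⟩ }

/-! ### morphisms glue -/

section Pre

variable {J : GrothendieckTopology (Over S)} [J.Subcanonical]

/-- the map to `X`, over `S` -/
abbrev mapOver (A : StMap.MapFamObj S n X) : A.totOver ⟶ X := Over.homMk A.map A.map_over

theorem topOver_mapOver {A B : StMap.MapFamObj S n X} (φ : A ⟶ B) :
    CurvSt.PtFamObj.Hom.topOver φ.hom ≫ mapOver B = mapOver A := Over.OverMorphism.ext φ.w_map

variable (x : StMap.MapFamObj S n X) {R : Sieve x.base}

/-- the pullback of the total space along an arrow -/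
theorem isPullback_tot {A B : StMap.MapFamObj S n X} (φ : A ⟶ B) :
    IsPullback (CurvSt.PtFamObj.Hom.topOver φ.hom) A.fOver B.fOver φ.hom.base :=
  IsPullback.of_map (Over.forget S) (Over.OverMorphism.ext φ.hom.cart.w) φ.hom.cart

/-- The cartesian diagram of the total spaces of the base changes. -/
theorem exists_zMap {o o' : R.arrows.category} (f : o ⟶ o') :
    ∃ h : bc x o.obj.hom ⟶ bc x o'.obj.hom, h.hom.base = f.hom.left ∧ h ≫ bcHom x o'.obj.hom = bcHom x o.obj.hom := by
  obtain ⟨χ, ⟨h1, h2⟩, -⟩ := existsUnique_fac (bcHom x o'.obj.hom) f.hom.left (bcHom x o.obj.hom) (Over.w f.hom)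
  exact ⟨χ, h1, h2⟩

/-- the comparison of the total space of the base change with the pullback in `Over S` -/
noncomputable def cmp (o : R.arrows.category) : (bc x o.obj.hom).totOver ≅ pullback x.fOver o.obj.hom :=
  (isPullback_tot (bcHom x o.obj.hom)).isoPullback

theorem cmp_fst (o : R.arrows.category) :
    (cmp x o).hom ≫ pullback.fst x.fOver o.obj.hom = CurvSt.PtFamObj.Hom.topOver (bcHom x o.obj.hom).hom :=
  (isPullback_tot (bcHom x o.obj.hom)).isoPullback_hom_fst

theorem cmp_snd (o : R.arrows.category) :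
    (cmp x o).hom ≫ pullback.snd x.fOver o.obj.hom = (bc x o.obj.hom).fOver :=
  (isPullback_tot (bcHom x o.obj.hom)).isoPullback_hom_snd

theorem cmp_map {o o' : R.arrows.category} (f : o ⟶ o') (h : bc x o.obj.hom ⟶ bc x o'.obj.hom)
    (h1 : h.hom.base = f.hom.left) (h2 : h ≫ bcHom x o'.obj.hom = bcHom x o.obj.hom) :
    (cmp x o).hom ≫ (pullDat R x.fOver).D.map f = CurvSt.PtFamObj.Hom.topOver h.hom ≫ (cmp x o').hom := by
  apply pullback.hom_ext
  · have e : (pullDat R x.fOver).D.map f ≫ pullback.fst x.fOver o'.obj.hom = pullback.fst x.fOver o.obj.hom := by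
      simp [pullDat]
    rw [Category.assoc, Category.assoc, cmp_fst, e, cmp_fst]
    have h3 : h.hom.top ≫ (bcHom x o'.obj.hom).hom.top = (bcHom x o.obj.hom).hom.top :=
      congrArg (fun t : bc x o.obj.hom ⟶ x => t.hom.top) h2
    exact Over.OverMorphism.ext h3.symm
  · have e : (pullDat R x.fOver).D.map f ≫ pullback.snd x.fOver o'.obj.hom =
        pullback.snd x.fOver o.obj.hom ≫ f.hom.left := by simp [pullDat]
    rw [Category.assoc, Category.assoc, cmp_snd, e, ← Category.assoc, cmp_snd, ← h1]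
    exact (isPullback_tot h).w.symm

/-- morphisms of families with a map glue -/
theorem glueFrom (R : Sieve x.base) (hR : R ∈ J x.base) :
    K751.Test.GlueFrom (StMap.MapFamObj.forget S n X) x R := by
  intro y g φ hφ hnat
  have hφ' : ∀ {z : StMap.MapFamObj S n X} (a : z ⟶ x) (ha : R a.hom.base), (φ a ha).hom.base = a.hom.base ≫ g :=
    fun a ha => hφ a ha
  have φ_congr : ∀ {z : StMap.MapFamObj S n X} {a a' : z ⟶ x} (e : a = a') (h : R a.hom.base)
      (h' : R a'.hom.base), φ a h = φ a' h' := by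
    intro z a a' e h h'
    subst e
    rfl
  let κ := pullCov R x.fOver
  have ho : ∀ o : R.arrows.category, R (bcHom x o.obj.hom).hom.base := fun o => o.property
  let m : ∀ o : R.arrows.category, (pullDat R x.fOver).D.obj o ⟶ y.totOver := fun o =>
    (cmp x o).inv ≫ CurvSt.PtFamObj.Hom.topOver (φ (bcHom x o.obj.hom) (ho o)).hom
  have hm : ∀ {o o' : R.arrows.category} (f : o ⟶ o'), (pullDat R x.fOver).D.map f ≫ m o' = m o := by
    intro o o' f
    obtain ⟨h, h1, h2⟩ := exists_zMap x f
    have h4 : R ((StMap.MapFamObj.forget S n X).map (h ≫ bcHom x o'.obj.hom)) := by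
      rw [h2]; exact ho o
    have h5 := hnat h (bcHom x o'.obj.hom) (ho o') h4
    rw [φ_congr h2 h4 (ho o)] at h5
    have h6 := cmp_map x f h h1 h2
    change _ ≫ (cmp x o').inv ≫ _ = (cmp x o).inv ≫ _
    rw [Iso.eq_inv_comp, ← Category.assoc, ← Category.assoc, h6, Category.assoc, Category.assoc, Iso.hom_inv_id_assoc,
      h5]
    rfl
  obtain ⟨N, hN, hN'⟩ := κ.existsUnique_desc hR (Z := y.totOver) m hm
  have hN1 : ∀ o : R.arrows.category, CurvSt.PtFamObj.Hom.topOver (bcHom x o.obj.hom).hom ≫ N =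
      CurvSt.PtFamObj.Hom.topOver (φ (bcHom x o.obj.hom) (ho o)).hom := by
    intro o
    have h1 : pullback.fst x.fOver o.obj.hom ≫ N = m o := hN o
    rw [← cmp_fst, Category.assoc, h1]
    exact Iso.hom_inv_id_assoc _ _
  have hext : ∀ {Z : Over S} {a b : x.totOver ⟶ Z},
      (∀ o : R.arrows.category, CurvSt.PtFamObj.Hom.topOver (bcHom x o.obj.hom).hom ≫ a =
        CurvSt.PtFamObj.Hom.topOver (bcHom x o.obj.hom).hom ≫ b) → a = b := by
    intro Z a b h
    apply κ.ext_hom hR
    intro o
    change pullback.fst x.fOver o.obj.hom ≫ a = pullback.fst x.fOver o.obj.hom ≫ b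
    rw [← cancel_epi (cmp x o).hom, ← Category.assoc, ← Category.assoc, cmp_fst]
    exact h o
  have hcart : IsPullback N x.fOver y.fOver g := by
    apply κ.isPullback hR N
    intro o
    have h1 := isPullback_tot (φ (bcHom x o.obj.hom) (ho o))
    rw [hφ' (bcHom x o.obj.hom) (ho o)] at h1
    refine IsPullback.of_iso h1 (cmp x o) (Iso.refl _) (Iso.refl _) (Iso.refl _) ?_ ?_ ?_ ?_
    · rw [Iso.refl_hom, Category.comp_id, hN o]
      exact (Iso.hom_inv_id_assoc _ _).symm
    · rw [Iso.refl_hom, Category.comp_id]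
      exact (cmp_snd x o).symm
    · simp
    · rw [Iso.refl_hom, Iso.refl_hom, Category.comp_id, Category.id_comp]
      rfl
  have hmap : N ≫ mapOver y = mapOver x := by
    apply hext
    intro o
    rw [← Category.assoc, hN1, topOver_mapOver, topOver_mapOver]
  have hsec : ∀ l, x.sectOver l ≫ N = g ≫ y.sectOver l := by
    intro l
    apply ext_over (J := J) (𝟙 x.base) hR
    intro T t ht
    rw [Category.comp_id] at ht
    let s : T ⟶ (bc x t).totOver := (bc x t).sectOver l
    have h1 : t ≫ x.sectOver l = s ≫ CurvSt.PtFamObj.Hom.topOver (bcHom x t).hom :=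
      Over.OverMorphism.ext ((bcHom x t).hom.w_sect l).symm
    have h2 : s ≫ CurvSt.PtFamObj.Hom.topOver (φ (bcHom x t) ht).hom = (t ≫ g) ≫ y.sectOver l := by
      have h3 := (φ (bcHom x t) ht).hom.w_sect l
      rw [hφ' (bcHom x t) ht] at h3
      exact Over.OverMorphism.ext h3
    have h4 : CurvSt.PtFamObj.Hom.topOver (bcHom x t).hom ≫ N =
        CurvSt.PtFamObj.Hom.topOver (φ (bcHom x t) ht).hom := hN1 ⟨Over.mk t, ht⟩
    rw [← Category.assoc, h1, Category.assoc, h4, h2, Category.assoc]
  let ψ : x ⟶ y :=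
    { hom :=
        { base := g
          top := N.left
          cart := hcart.map (Over.forget S)
          w_sect := fun i => congrArg CommaMorphism.left (hsec i) }
      w_map := congrArg CommaMorphism.left hmap }
  have hψN : CurvSt.PtFamObj.Hom.topOver ψ.hom = N := Over.OverMorphism.ext rfl
  refine ⟨ψ, ⟨rfl, fun z a ha => ?_⟩, ?_⟩
  · have ha' : R a.hom.base := ha
    obtain ⟨χ, ⟨h1, h2⟩, -⟩ := existsUnique_fac (bcHom x a.hom.base) (𝟙 z.base) a (Category.id_comp _)
    have h4 : R ((StMap.MapFamObj.forget S n X).map (χ ≫ bcHom x a.hom.base)) := by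
      rw [h2]; exact ha
    have h5 := hnat χ (bcHom x a.hom.base) ha' h4
    rw [φ_congr h2 h4 ha] at h5
    apply mapFam_hom_ext
    · exact (hφ' a ha).symm
    · rw [h5]
      have h6 := hN1 ⟨Over.mk a.hom.base, ha'⟩
      have h7 : χ.hom.top ≫ (bcHom x a.hom.base).hom.top = a.hom.top :=
        congrArg (fun t : z ⟶ x => t.hom.top) h2
      change a.hom.top ≫ N.left = χ.hom.top ≫ (φ (bcHom x a.hom.base) ha').hom.top
      rw [← h7, Category.assoc]
      congr 1
      exact congrArg CommaMorphism.left h6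
  · rintro ψ' ⟨h1, h2⟩
    apply mapFam_hom_ext
    · exact h1
    · have h3 : CurvSt.PtFamObj.Hom.topOver ψ'.hom = N := by
        apply hext
        intro o
        have h4 := h2 (bcHom x o.obj.hom) (ho o)
        rw [hN1, ← h4]
        rfl
      exact congrArg CommaMorphism.left h3

variable (S n X J) in
/-- Families with a map form a prestack. -/
theorem isPrestack_mapFam : Stk.IsPrestack J (StMap.MapFam S n X) :=
  (K751.Test.isPrestack_iff J).2 ⟨isFibGrpd_mapFam, fun x R hR => glueFrom x R hR⟩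

end Pre

/-! ### base change of the conditions -/

section BaseChange

variable {C T C' T' Y : Scheme.{u}} {f : C ⟶ T} {σ : Fin n → (T ⟶ C)} {hσ : ∀ i, σ i ≫ f = 𝟙 T} {μ : C ⟶ Y}
  {f' : C' ⟶ T'} {σ' : Fin n → (T' ⟶ C')} {hσ' : ∀ i, σ' i ≫ f' = 𝟙 T'} {μ' : C' ⟶ Y} {top : C' ⟶ C} {b : T' ⟶ T}

theorem markedPt_paste (sq : IsPullback top f' f b) (hs : ∀ i, σ' i ≫ top = b ≫ σ i) {Ω : Type u} [Field Ω]
    {t : Spec (CommRingCat.of Ω) ⟶ T'} {Xt : Scheme.{u}} {i : Xt ⟶ C'} {q : Xt ⟶ Spec (CommRingCat.of Ω)}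
    (hP : IsPullback i q f' t) :
    CurvSt.markedPt σ' hσ' hP = CurvSt.markedPt σ hσ (hP.paste_horiz sq) := by
  funext j
  unfold CurvSt.markedPt
  have h : hP.lift (t ≫ σ' j) (𝟙 _) (by rw [Category.assoc, hσ', Category.comp_id, Category.id_comp]) =
      (hP.paste_horiz sq).lift ((t ≫ b) ≫ σ j) (𝟙 _)
        (by rw [Category.assoc, hσ, Category.comp_id, Category.id_comp]) := by
    apply (hP.paste_horiz sq).hom_ext
    · rw [IsPullback.lift_fst, IsPullback.lift_fst_assoc, Category.assoc, Category.assoc, hs]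
    · rw [IsPullback.lift_snd, IsPullback.lift_snd]
  rw [h]

/-- Stable families of maps are stable under base change. -/
theorem IsStableMapFam.baseChange {g : ℕ} (h : StMap.IsStableMapFam f σ hσ μ g) (sq : IsPullback top f' f b)
    (hs : ∀ i, σ' i ≫ top = b ≫ σ i) (hμ : top ≫ μ = μ') : StMap.IsStableMapFam f' σ' hσ' μ' g := by
  obtain ⟨h1, h2, h3, h4⟩ := h
  refine ⟨MorphismProperty.of_isPullback (P := @Flat) sq h1, MorphismProperty.of_isPullback (P := @IsProper) sq h2,
    MorphismProperty.of_isPullback (P := @LocallyOfFinitePresentation) sq h3, fun Ω _ _ t Xt i q hP => ?_⟩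
  have h5 := h4 Ω (t ≫ b) Xt (i ≫ top) q (hP.paste_horiz sq)
  rw [← markedPt_paste (hσ' := hσ') sq hs hP, Category.assoc, hμ] at h5
  exact h5

/-- The fibre degree is stable under base change. -/
theorem IsFibDeg.baseChange {L : Y.Modules} {d : ℤ} (h : StMap.IsFibDeg f μ L d) (sq : IsPullback top f' f b)
    (hμ : top ≫ μ = μ') : StMap.IsFibDeg f' μ' L d := by
  intro Ω _ _ t Xt i q hP
  have h5 := h Ω (t ≫ b) Xt (i ≫ top) q (hP.paste_horiz sq)
  rw [Category.assoc, hμ] at h5
  exact h5

end BaseChange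

/-! ### the nodes E1, E2, E3 of the plan -/

section Main

variable (S : Scheme.{u}) (X : Over S) (L : X.left.Modules) (g N : ℕ) (e : ℤ)

theorem stable_cond ⦃A B : StMap.MapFamObj S N X⦄ (φ : A ⟶ B)
    (h : StMap.IsStableMapFam B.f B.sect B.sect_f B.map g ∧ StMap.IsFibDeg B.f B.map L e) :
    StMap.IsStableMapFam A.f A.sect A.sect_f A.map g ∧ StMap.IsFibDeg A.f A.map L e :=
  ⟨IsStableMapFam.baseChange h.1 φ.hom.cart φ.hom.w_sect φ.w_map, IsFibDeg.baseChange h.2 φ.hom.cart φ.w_map⟩

theorem isFibGrpd_mapSt : FibCat.IsFibGrpd (StMap.MapSt S X L g N e).p :=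
  K901.SubStack.isFibGrpd_fullSub (h𝒳 := isFibGrpd_mapFam) (stable_cond S X L g N e)

instance : (AlgSp.J S).Subcanonical :=
  inferInstanceAs (QuotSh.J Scheme.fppfPrecoverage S).Subcanonical

theorem isPrestack_mapSt : Stk.IsPrestack (AlgSp.J S) (StMap.MapSt S X L g N e) :=
  ⟨isFibGrpd_mapSt S X L g N e, fun _ R hR => K751.FF.isPrestackFor_of_ff (AlgSt.subIncl _ _)
    ((isPrestack_mapFam S N X (AlgSp.J S)).2 R hR)⟩

theorem mapsThrough_of_hom (i : Fin N) {P : Scheme.{u}} (p : P ⟶ X.left) ⦃A B : StMap.MapFamObj S N X⦄ (φ : A ⟶ B)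
    (h : StMap.MapsThrough i p B) : StMap.MapsThrough i p A := by
  obtain ⟨t, ht⟩ := h
  exact ⟨φ.hom.base.left ≫ t, by rw [Category.assoc, ht, StMap.MapFamObj.base_sect_map]⟩

theorem isPrestack_mapsThrough (i : Fin N) {P : Scheme.{u}} (p : P ⟶ X.left) :
    Stk.IsPrestack (AlgSp.J S) (AlgSt.fullSub (StMap.MapSt S X L g N e)
      (fun B => StMap.MapsThrough i p B.obj)) :=
  ⟨K901.SubStack.isFibGrpd_fullSub (h𝒳 := isFibGrpd_mapSt S X L g N e)
    (fun _ _ φ h => mapsThrough_of_hom S X N i p φ.hom h),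
    fun _ R hR => K751.FF.isPrestackFor_of_ff (AlgSt.subIncl _ _) ((isPrestack_mapSt S X L g N e).2 R hR)⟩

end Main

end K655.MapPre
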