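import Groth.Agent.Fano.K714.Comp
import Mathlib.FieldTheory.IsAlgClosed.AlgebraicClosure
import Mathlib.RingTheory.Derivation.Basic
import Mathlib.RingTheory.Etale.Kaehler
import Mathlib.RingTheory.Etale.Field

/-!
# Generic point of the component through a nonsingular point

With all derivations and specializations.
-/

set_option autoImplicit false

universe u

namespace K655.GenPt

open MvPolynomial

/-- Nullstellensatz: a nonzero algebra of finite type over an algebraically closed field has a point. -/
theorem nonempty_algHom {k : Type u} [Field k] [IsAlgClosed k] {R : Type u} [CommRing R] [Nontrivial R] [Algebra k R]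
    [Algebra.FiniteType k R] : Nonempty (R →ₐ[k] k) := by
  obtain ⟨M, hM⟩ := Ideal.exists_maximal R
  let _ : Field (R ⧸ M) := Ideal.Quotient.field M
  have : Algebra.FiniteType k (R ⧸ M) := Algebra.FiniteType.of_surjective (Ideal.Quotient.mkₐ k M)
    (Ideal.Quotient.mkₐ_surjective k M)
  have h1 : Module.Finite k (R ⧸ M) := finite_of_finite_type_of_isJacobsonRing k (R ⧸ M)
  have h2 : Function.Bijective (algebraMap k (R ⧸ M)) := IsAlgClosed.algebraMap_bijective_of_isIntegral
  exact ⟨((AlgEquiv.ofBijective (Algebra.ofId k (R ⧸ M)) h2).symm : (R ⧸ M) →ₐ[k] k).comp (Ideal.Quotient.mkₐ k M)⟩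

/-- Derivations extend along formally etale algebras. -/
theorem exists_derivation {k A L : Type u} [CommRing k] [CommRing A] [Field L] [Algebra k A] [Algebra k L]
    [Algebra A L] [IsScalarTower k A L] [Algebra.FormallyEtale A L] (d : Derivation k A L) :
    ∃ D : Derivation k L L, ∀ a : A, D (algebraMap A L a) = d a := by
  let e := KaehlerDifferential.tensorKaehlerEquivOfFormallyEtale k A L
  let φ : TensorProduct A L (KaehlerDifferential k A) →ₗ[L] L :=
    TensorProduct.AlgebraTensorModule.lift
      ((LinearMap.lsmul L (KaehlerDifferential k A →ₗ[A] L)).flip d.liftKaehlerDifferential)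
  refine ⟨(φ ∘ₗ e.symm.toLinearMap).compDer (KaehlerDifferential.D k L), fun a => ?_⟩
  change φ (e.symm (KaehlerDifferential.D k L (algebraMap A L a))) = d a
  rw [KaehlerDifferential.tensorKaehlerEquivOfFormallyEtale_symm_D_algebraMap]
  simp [φ]

theorem exists_generic {k : Type u} [Field k] [IsAlgClosed k] [CharZero k] {N : ℕ} {ι : Type} [Finite ι]
    (h : ι → MvPolynomial (Fin N) k) {x : Fin N → k} (hx : K714.Comp.NS h x) :
    ∃ (L : Type u) (_ : Field L) (_ : Algebra k L) (_ : IsAlgClosed L) (ξ : Fin N → L),
      (∀ i, aeval ξ (h i) = 0) ∧ (∀ g : MvPolynomial (Fin N) k, eval x g ≠ 0 → aeval ξ g ≠ 0) ∧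
      (∀ v : Fin N → L, (∀ i, ∑ l, aeval ξ (pderiv l (h i)) * v l = 0) →
        ∃ D : Derivation k L L, ∀ l, D (ξ l) = v l) ∧
      (∀ (m : ℕ) (y : Fin m → L) (q : MvPolynomial (Fin N ⊕ Fin m) k), aeval (Sum.elim ξ y) q ≠ 0 →
        ∃ (x' : Fin N → k) (y' : Fin m → k), eval (Sum.elim x' y') q ≠ 0 ∧
          ∀ p : MvPolynomial (Fin N ⊕ Fin m) k, aeval (Sum.elim ξ y) p = 0 → eval (Sum.elim x' y') p = 0) := by
  classical
  obtain ⟨P, hP, hle, hPx, -, s, hs, hsP⟩ := K714.Comp.exists_prime h hx
  let A := MvPolynomial (Fin N) k ⧸ P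
  let F := FractionRing A
  let L := AlgebraicClosure F
  let ξ : Fin N → L := fun l => algebraMap A L (Ideal.Quotient.mk P (X l))
  have hξ : ∀ g : MvPolynomial (Fin N) k, aeval ξ g = algebraMap A L (Ideal.Quotient.mk P g) := by
    intro g
    have h1 : (aeval ξ : MvPolynomial (Fin N) k →ₐ[k] L) =
        (IsScalarTower.toAlgHom k A L).comp (Ideal.Quotient.mkₐ k P) := by
      apply MvPolynomial.algHom_ext
      intro l
      rw [aeval_X]
      rfl
    exact DFunLike.congr_fun h1 g
  have hinj : Function.Injective (algebraMap A L) := by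
    rw [IsScalarTower.algebraMap_eq A F L]
    exact (algebraMap F L).injective.comp (IsFractionRing.injective A F)
  have hzero : ∀ g : MvPolynomial (Fin N) k, aeval ξ g = 0 ↔ g ∈ P := by
    intro g
    rw [hξ, map_eq_zero_iff _ hinj, Ideal.Quotient.eq_zero_iff_mem]
  have het : Algebra.FormallyEtale A L := by
    have h1 : Algebra.FormallyEtale A F := Algebra.FormallyEtale.of_isLocalization (nonZeroDivisors A)
    have : CharZero F := charZero_of_injective_algebraMap (algebraMap k F).injective
    have h2 : Algebra.FormallyEtale F L := Algebra.FormallyEtale.of_isSeparable F L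
    exact Algebra.FormallyEtale.comp A F L
  refine ⟨L, inferInstance, inferInstance, inferInstance, ξ, fun i => (hzero _).2 (hle (Ideal.subset_span ⟨i, rfl⟩)),
    fun g hg h0 => hg ((K714.Comp.mem_mx x g).1 (hPx ((hzero g).1 h0))), ?_, ?_⟩
  · intro v hv
    -- the derivation of the polynomial ring
    have hsm : ∀ (g : MvPolynomial (Fin N) k) (c : L), g • c = aeval ξ g * c := by
      intro g c
      rw [hξ, Algebra.smul_def, IsScalarTower.algebraMap_apply (MvPolynomial (Fin N) k) A L]
      rfl
    let D0 : Derivation k (MvPolynomial (Fin N) k) L := mkDerivation k v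
    have hD0 : ∀ g, D0 g = ∑ l, aeval ξ (pderiv l g) * v l := by
      intro g
      induction g using MvPolynomial.induction_on with
      | C a => rw [show (C a : MvPolynomial (Fin N) k) = algebraMap k _ a from rfl, D0.map_algebraMap]; simp
      | add p q h1 h2 =>
        rw [map_add, h1, h2, ← Finset.sum_add_distrib]
        exact Finset.sum_congr rfl fun l _ => by rw [map_add, map_add, add_mul]
      | mul_X p i h1 =>
        rw [D0.leibniz, h1, hsm, hsm, show D0 (X i) = v i from mkDerivation_X k v i, Finset.mul_sum]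
        have h2 : ∀ l : Fin N, aeval ξ (pderiv l (p * X i)) * v l =
            aeval ξ p * aeval ξ (pderiv l (X i : MvPolynomial (Fin N) k)) * v l +
              aeval ξ (X i : MvPolynomial (Fin N) k) * (aeval ξ (pderiv l p) * v l) := by
          intro l
          rw [Derivation.leibniz, smul_eq_mul, smul_eq_mul, map_add, map_mul, map_mul]
          ring
        rw [Finset.sum_congr rfl fun l _ => h2 l, Finset.sum_add_distrib]
        congr 1
        rw [Finset.sum_eq_single i]
        · simp
        · intro l _ hl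
          rw [pderiv_X_of_ne (Ne.symm hl)]
          simp
        · intro h0
          exact absurd (Finset.mem_univ i) h0
    have hspan : ∀ g ∈ Ideal.span (Set.range h), D0 g = 0 := by
      intro g hg
      have hgP := hle hg
      induction hg using Submodule.span_induction with
      | mem z hz => obtain ⟨i, rfl⟩ := hz; rw [hD0]; exact hv i
      | zero => exact map_zero _
      | add y z hy hz h1 h2 => rw [map_add, h1 (hle hy), h2 (hle hz), add_zero]
      | smul a z hz h1 =>
        rw [smul_eq_mul, D0.leibniz, h1 (hle hz), smul_zero, zero_add, hsm, (hzero z).2 (hle hz), zero_mul]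
    have hDP : ∀ g ∈ P, D0 g = 0 := by
      intro g hg
      have h1 := hspan _ (hsP g hg)
      rw [D0.leibniz, hsm, hsm, (hzero g).2 hg, zero_mul, add_zero] at h1
      refine (mul_eq_zero.1 h1).resolve_left fun h2 => ?_
      exact hs ((K714.Comp.mem_mx x s).1 (hPx ((hzero s).1 h2)))
    let d : Derivation k A L :=
      { toLinearMap := (Submodule.liftQ (P.restrictScalars k) D0.toLinearMap (fun g hg => hDP g hg) :)
        map_one_eq_zero' := D0.map_one_eq_zero
        leibniz' := by
          intro a b
          obtain ⟨a, rfl⟩ := Ideal.Quotient.mk_surjective a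
          obtain ⟨b, rfl⟩ := Ideal.Quotient.mk_surjective b
          have h1 := D0.leibniz a b
          rw [hsm, hsm, hξ, hξ] at h1
          change D0 (a * b) = (Ideal.Quotient.mk P a) • D0 b + (Ideal.Quotient.mk P b) • D0 a
          have h2 : ∀ (a : A) (c : L), a • c = algebraMap A L a * c := fun a c => Algebra.smul_def a c
          rw [h1, h2, h2] }
    obtain ⟨D, hD⟩ := exists_derivation d
    refine ⟨D, fun l => ?_⟩
    rw [show ξ l = algebraMap A L (Ideal.Quotient.mk P (X l)) from rfl, hD]
    exact mkDerivation_X k v l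
  · intro m y q hq
    let φ : MvPolynomial (Fin N ⊕ Fin m) k →ₐ[k] L := aeval (Sum.elim ξ y)
    let R := Algebra.adjoin k (Set.range (Sum.elim ξ y) ∪ {(φ q)⁻¹})
    have hft : Algebra.FiniteType k R := by
      refine (Subalgebra.fg_iff_finiteType _).1 ?_
      refine ⟨((Set.finite_range (Sum.elim ξ y)).union (Set.finite_singleton (φ q)⁻¹)).toFinset, ?_⟩
      rw [Set.Finite.coe_toFinset]
    obtain ⟨ψ⟩ := nonempty_algHom (k := k) (R := R)
    have hmem : ∀ i, Sum.elim ξ y i ∈ R := fun i => Algebra.subset_adjoin (Or.inl ⟨i, rfl⟩)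
    let ρ : MvPolynomial (Fin N ⊕ Fin m) k →ₐ[k] R := aeval fun i => ⟨Sum.elim ξ y i, hmem i⟩
    have hρ : ∀ p, (ρ p : L) = φ p := by
      intro p
      have : R.val.comp ρ = φ := by
        apply MvPolynomial.algHom_ext
        intro i
        simp [ρ, φ]
      exact DFunLike.congr_fun this p
    let x' : Fin N → k := fun l => ψ ⟨ξ l, hmem (Sum.inl l)⟩
    let y' : Fin m → k := fun l => ψ ⟨y l, hmem (Sum.inr l)⟩
    have hev : ∀ p, eval (Sum.elim x' y') p = ψ (ρ p) := by
      intro p
      have : (aeval (Sum.elim x' y') : MvPolynomial (Fin N ⊕ Fin m) k →ₐ[k] k) = ψ.comp ρ := by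
        apply MvPolynomial.algHom_ext
        rintro (i | i)
        · simp [ρ, x']
        · simp [ρ, y']
      rw [← MvPolynomial.aeval_eq_eval]
      exact DFunLike.congr_fun this p
    refine ⟨x', y', ?_, ?_⟩
    · rw [hev]
      have hinv : (φ q)⁻¹ ∈ R := Algebra.subset_adjoin (Or.inr rfl)
      have h1 : ρ q * ⟨(φ q)⁻¹, hinv⟩ = 1 := by
        apply Subtype.ext
        change (ρ q : L) * (φ q)⁻¹ = 1
        rw [hρ, mul_inv_cancel₀ hq]
      have h2 := congrArg ψ h1
      rw [map_mul, map_one] at h2
      exact left_ne_zero_of_mul_eq_one h2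
    · intro p hp
      rw [hev]
      have : ρ p = 0 := Subtype.ext (by rw [hρ]; exact hp)
      rw [this, map_zero]

end K655.GenPt
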