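import Groth.Agent.Fano.K655.CrvMbar
import Groth.Agent.CurvSt.K744.DensFirst
import Groth.Agent.CurvSt.K508.SmLocus

/-!
# Smooth curves are dense in the charts of the stack of prestable curves of genus zero

* `dense_smooth` : in a smooth chart of `Mbar` the points with smooth fibre are dense;
* `exists_crvChart` : every stable pointed curve of genus `0` over an algebraically closed field over `k` comes from a chart
  `CrvChart k N` with base smooth over `k`, whose family is stable, and in which the points with smooth fibre are dense.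
-/

set_option autoImplicit false
set_option backward.isDefEq.respectTransparency false
set_option backward.isDefEq.respectTransparency.types false

universe u

open CategoryTheory CategoryTheory.Limits AlgebraicGeometry Opposite CurvSt

namespace K655.CrvDens

open K896.MbarFam K896.MbarSmooth K505.KonDef K655.CrvMbar K901.Loci

section Dens

variable {S : Scheme.{u}} {g n : ℕ}

theorem rep_yonF_rfl (h : FibCat.IsFibGrpd (Mbar S g n).p) {P : MorphismProperty (AlgSp.Sp S)} (B : (Mbar S g n).obj)
    {U : Over S} (hB : (Mbar S g n).p.obj B = U) (H : AlgSt.RepByAlgSpWith P (K735.Fp.yonF h B hB)) :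
    AlgSt.RepByAlgSpWith P (K735.Fp.yonF h B rfl) := by
  subst hB
  exact H

/-- Points with smooth fibre are dense in a smooth chart of `Mbar`. -/
theorem dense_smooth (h : FibCat.IsFibGrpd (Mbar S g n).p) {U : Over S} (hU : Smooth U.hom)
    {x : FibCat.overCat U ⥤ᵇ Mbar S g n} (hx : AlgSt.RepByAlgSpWith (AlgSp.LocP @Smooth) x) :
    Dense {w : (x.obj (K734.Fib.one U)).obj.base.left |
      ∀ c : (x.obj (K734.Fib.one U)).obj.C, (x.obj (K734.Fib.one U)).obj.f c = w →
        SmoothAt (x.obj (K734.Fib.one U)).obj.f c} := by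
  have hB : (Mbar S g n).p.obj (x.obj (K735.Fp.idObj U)) = U := x.w_obj _
  obtain ⟨i, -⟩ := K735.Fp.exists_yonIso h x (K735.Fp.yonF h (x.obj (K735.Fp.idObj U)) hB)
    (K735.Fp.yonFIso h _ hB).inv (K735.Fp.vert_yonFIso h _ hB).iso_inv
  have hB' : (x.obj (K735.Fp.idObj U)).obj.base = U := hB
  have hsm : Smooth (x.obj (K735.Fp.idObj U)).obj.base.hom := by
    rw [hB']
    exact hU
  have h1 := rep_yonF_rfl h _ hB (K735.Rep.repByAlgSpWith_of_iso _ i hx)
  rw [dense_iff_inter_open]
  rintro O hO ⟨p, hp⟩
  obtain ⟨w, hw, hws⟩ := K744.Dens.exists_smooth_point (fun K _ _ => K744.Dens.firstOrder K) h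
    (x.obj (K735.Fp.idObj U)) h1 ⟨O, hO⟩ p hp
  exact ⟨w, hw, hws⟩

end Dens

section Charts

variable {k : Type u} [Field k] {N : ℕ}

/-- The points of the base of a chart with smooth fibre. -/
def smPts (c : CrvChart k N) : Set c.U.left := {w | ∀ z : c.C, c.f z = w → SmoothAt c.f z}

theorem isOpen_smPts (c : CrvChart k N) : IsOpen (smPts c) := by
  have h1 : Flat c.f := c.isPre.1
  have h2 : IsProper c.f := c.isPre.2.1
  have h3 : LocallyOfFinitePresentation c.f := c.isPre.2.2.1
  have h : smPts c = (K508.SmLocus.smBase c.f : Set c.U.left) := by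
    ext w
    refine ((K508.SmLocus.mem_smBase (f := c.f)).trans ?_).symm
    exact forall₂_congr fun z _ => K903.NonsmoothFin.mem_smoothLocus_iff_exists c.f z
  rw [h]
  exact (K508.SmLocus.smBase c.f).2

/-- A base change of the family of a chart is smooth iff the base goes to the points with smooth fibre. -/
theorem smooth_iff (c : CrvChart k N) {C' T' : Scheme.{u}} {f' : C' ⟶ T'} {a : C' ⟶ c.C} {b : T' ⟶ c.U.left}
    (sq : IsPullback a f' c.f b) : Smooth f' ↔ Set.range b ⊆ smPts c := by
  have h1 : Flat c.f := c.isPre.1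
  have h2 : IsProper c.f := c.isPre.2.1
  have h3 : LocallyOfFinitePresentation c.f := c.isPre.2.2.1
  have h : smPts c = (K508.SmLocus.smBase c.f : Set c.U.left) := by
    ext w
    refine ((K508.SmLocus.mem_smBase (f := c.f)).trans ?_).symm
    exact forall₂_congr fun z _ => K903.NonsmoothFin.mem_smoothLocus_iff_exists c.f z
  rw [h]
  exact K508.SmLocus.smooth_iff_range_subset sq

/-- **Charts of the stack of prestable curves of genus zero**: every stable pointed curve of genus zero over an
algebraically closed field over `k` comes from a chart with smooth base, stable family, and dense locus of smooth fibres. -/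
theorem exists_crvChart (hN : 3 ≤ N) {Ω : Type u} [Field Ω] [IsAlgClosed Ω]
    (A : PtFamObj (Spec (CommRingCat.of k)) N) (hA : IsStableFam A.f A.sect A.sect_f 0)
    (e : A.base.left ≅ Spec (CommRingCat.of Ω)) :
    ∃ c : CrvChart k N, Smooth c.U.hom ∧ IsStableFam c.B.f c.B.sect c.B.sect_f 0 ∧ Dense (smPts c) ∧
      Nonempty (A ⟶ c.B) := by
  obtain ⟨U, hU, x, hx, h⟩ := exists_hom_chart hN A hA e
  refine ⟨ofChart hN hU hx, smooth_ofChart hN hU hx, (x.obj (K734.Fib.one U)).property, ?_, h⟩
  have hF := isFibGrpd_mbar (Spec (CommRingCat.of k)) (le_of hN)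
  have h1 : Smooth U.hom := K748.SmOver.smooth_hom_of_locQ hF
      (K896.MbarFinal.locQ_smooth_mbar _ (le_of hN)) x (K600.EtChart.smooth_of_etale hx)
  exact dense_smooth hF h1 (K600.EtChart.smooth_of_etale hx)

end Charts

end K655.CrvDens
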