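import Groth.Agent.Fano.K188.LineDef
import Groth.Agent.Ribbon.K932.P1Deg
import Groth.Agent.Variety.K658.RelDimComp
import Groth.Agent.Sga5.ProjSmooth
import Groth.Agent.Ega3B.ProjProper
import Groth.Agent.Sga4h.H912.P1Irr

/-!
# The projective line with a linear map to a hypersurface is a stable family

* `exists_projIso`: the projective line over `Spec Ω` is `ProjSpace 1 Ω`, compatibly with `O(1)`;
* `exists_fibIso`: geometric fibres of `pr T`;
* `isPrestablePtd_p1`: a curve isomorphic to the projective line is prestable of genus `0`;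
* `isStable_std`: the family `P1 T` with the section `[1 : 0]` and a linear map is a stable family.
-/

set_option autoImplicit false

universe u

open CategoryTheory CategoryTheory.Limits AlgebraicGeometry

namespace K655.StdStable

open K390.PnSec Groth.Agent.Fdesc.LocGen Groth.Agent.Dix.ProjProper
open Groth.Agent.Ega2.H295.PnUniq Groth.Agent.Ega2.H295.PnCoord
open K188.LineDef W4swstmapratcurves

section Iso

/-- The projective line over `Spec Ω` is `ProjSpace 1 Ω`, compatibly with `O(1)` and its coordinates. -/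
theorem exists_projIso (Ω : Type u) [CommRing Ω] :
    ∃ e : P1 (Spec (CommRingCat.of Ω)) ≅ CohB1.ProjSpace 1 Ω,
      e.hom ≫ CohB1.ProjSpace.toSpec 1 Ω = pr (Spec (CommRingCat.of Ω)) ∧
      GivenBy e.hom (N (Spec (CommRingCat.of Ω))) (fun a => crd 1 (Spec (CommRingCat.of Ω)) a) := by
  set Q : Scheme.{u} := Spec (CommRingCat.of Ω) with hQ
  obtain ⟨r, hr, hr'⟩ := exists_givenBy (R := Ω) (pr Q) (M := N Q) (fun a => crd 1 Q a)
    (GivenBy.refl (toZ 1 Q)).iSup_genLocus
  obtain ⟨r', h'⟩ := exists_givenBy' (M := (Scheme.Modules.pullback (𝟙 (CohB1.ProjSpace 1 Ω))).obj (O1 1 Ω))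
    (fun a => tsec (𝟙 (CohB1.ProjSpace 1 Ω)) a) (GivenBy.refl (𝟙 (CohB1.ProjSpace 1 Ω))).iSup_genLocus
  let σ : CohB1.ProjSpace 1 Ω ⟶ P1 Q := liftP r' (CohB1.ProjSpace.toSpec 1 Ω)
  have hσ1 : σ ≫ toZ 1 Q = r' := liftP_toZ _ _
  have hσ2 : σ ≫ pr Q = CohB1.ProjSpace.toSpec 1 Ω := liftP_toBase _ _
  have ha : σ ≫ r = 𝟙 _ := by
    have h1 := hr'.comp σ
    have h2 : GivenBy r' ((Scheme.Modules.pullback σ).obj (N Q)) (fun a => pullTop σ (crd 1 Q a)) := by
      have := (GivenBy.refl (toZ 1 Q)).comp σ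
      rw [hσ1] at this
      exact this
    obtain ⟨e, he⟩ := h2.exists_iso h'
    have h3 := h1.of_iso e
    simp only [he] at h3
    refine h3.unique (GivenBy.refl (𝟙 (CohB1.ProjSpace 1 Ω))) ?_
    rw [Category.assoc, hr, hσ2, Category.id_comp]
  have hb : r ≫ σ = 𝟙 _ := by
    refine hom_ext_over ?_ ?_
    · rw [Category.assoc, hσ1, Category.id_comp]
      have h1 := h'.comp r
      have h2 : GivenBy r ((Scheme.Modules.pullback r).obj
          ((Scheme.Modules.pullback (𝟙 (CohB1.ProjSpace 1 Ω))).obj (O1 1 Ω)))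
          (fun a => pullTop r (tsec (𝟙 (CohB1.ProjSpace 1 Ω)) a)) := by
        have := (GivenBy.refl (𝟙 (CohB1.ProjSpace 1 Ω))).comp r
        rw [Category.comp_id] at this
        exact this
      obtain ⟨e, he⟩ := h2.exists_iso hr'
      have h3 := h1.of_iso e
      simp only [he] at h3
      exact h3.unique' (GivenBy.refl (toZ 1 Q))
    · rw [Category.assoc, hσ2, hr, Category.id_comp]
  exact ⟨⟨r, σ, hb, ha⟩, hr, hr'⟩

variable {T : Scheme.{u}}

/-- Geometric fibres of `P1 T ⟶ T`. -/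
theorem exists_fibIso {Ω : Type u} [CommRing Ω] {t : Spec (CommRingCat.of Ω) ⟶ T} {Xt : Scheme.{u}} {i : Xt ⟶ P1 T}
    {q : Xt ⟶ Spec (CommRingCat.of Ω)} (hP : IsPullback i q (pr T) t) :
    ∃ e : Xt ≅ CohB1.ProjSpace 1 Ω, e.hom ≫ CohB1.ProjSpace.toSpec 1 Ω = q ∧
      GivenBy e.hom ((Scheme.Modules.pullback i).obj (N T)) (fun a => pullTop i (crd 1 T a)) := by
  obtain ⟨e, he, he'⟩ := exists_projIso Ω
  let e1 : Xt ≅ P1 (Spec (CommRingCat.of Ω)) := hP.isoIsPullback _ _ (isPullback_pmap t)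
  have h1 : e1.hom ≫ pmap t = i := hP.isoIsPullback_hom_fst _ _ _
  have h2 : e1.hom ≫ pr _ = q := hP.isoIsPullback_hom_snd _ _ _
  have h3 : GivenBy (i ≫ toZ 1 T) ((Scheme.Modules.pullback i).obj (N T)) (fun a => pullTop i (crd 1 T a)) :=
    (GivenBy.refl (toZ 1 T)).comp i
  have h4 : GivenBy (e1.hom ≫ toZ 1 _) ((Scheme.Modules.pullback e1.hom).obj (N _))
      (fun a => pullTop e1.hom (crd 1 _ a)) := (GivenBy.refl (toZ 1 _)).comp e1.hom
  have h5 : i ≫ toZ 1 T = e1.hom ≫ toZ 1 _ := by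
    rw [← h1, Category.assoc, pmap_toZ]
  rw [h5] at h3
  obtain ⟨τ, hτ⟩ := h4.exists_iso h3
  have h6 := (he'.comp e1.hom).of_iso τ
  simp only [hτ] at h6
  exact ⟨e1 ≪≫ e, by rw [Iso.trans_hom, Category.assoc, he, h2], h6⟩

end Iso

section P1

variable {Ω : Type u} [Field Ω] {X : Scheme.{u}} {q : X ⟶ Spec (CommRingCat.of Ω)}
  (e : X ≅ CohB1.ProjSpace 1 Ω) (he : e.hom ≫ CohB1.ProjSpace.toSpec 1 Ω = q)

include e in
theorem irreducibleSpace_p1 : IrreducibleSpace X := by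
  have h := Groth.Agent.Sga4h.H912.P1Irr.irreducibleSpace_projSpace (n := 1) (A := Ω)
  exact (Homeomorph.irreducibleSpace_iff (Scheme.homeoOfIso e)).2 h

include e in
theorem dim_p1 : topologicalKrullDim X = 1 := by
  have := Groth.Agent.Sga5.ProjSmooth.smooth_toSpec 1 Ω
  have h0 : Nonempty (CohB1.ProjSpace 1 Ω) :=
    (Groth.Agent.Sga4h.H912.P1Irr.irreducibleSpace_projSpace (n := 1) (A := Ω)).toNonempty
  have h1 := K658.RelDimComp.topologicalKrullDim_eq 1 (CohB1.ProjSpace.toSpec 1 Ω)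
  rw [(Scheme.homeoOfIso e).isHomeomorph.topologicalKrullDim_eq, h1]
  rfl

include he

theorem isProper_p1 : IsProper q := by
  have := Groth.Agent.Ega3B.ProjProper.isProper_toSpec 1 Ω
  rw [← he]
  infer_instance

theorem smooth_p1 : Smooth q := by
  have := Groth.Agent.Sga5.ProjSmooth.smooth_toSpec 1 Ω
  have : Smooth (CohB1.ProjSpace.toSpec 1 Ω) := SmoothOfRelativeDimension.smooth 1 _
  rw [← he]
  infer_instance

theorem genus_p1 : letI : X.Over (Spec (CommRingCat.of Ω)) := ⟨q⟩; Curv2.genus Ω X = 0 := by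
  letI : X.Over (Spec (CommRingCat.of Ω)) := ⟨q⟩
  unfold Curv2.genus
  obtain ⟨ε⟩ := K932.P1Deg.unit_pull Ω e
  have h1 : Coh.IsQCoh ((Scheme.Modules.pullback e.hom).obj (Twist.twistProjSpace 1 Ω 0)) :=
    (Groth.Agent.VarietyB.DegPhi.isCoh_of_hasBases
      (Groth.Agent.VarietyB.ProjForm.HasBases.pullback e.hom
        (K932.P1Deg.hasBases (K932.P1Deg.isInvertible_twist Ω 0)))).1
  have h2 := Groth.Agent.VarietyB.HHPush.finrank_HH_push e.hom Ω he _ h1 1
  have h3 := (Groth.Agent.VarietyA.EulerLES.equivA Ω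
    (K932.SqKill.pushPullOfIso e.hom (Twist.twistProjSpace 1 Ω 0)) 1).finrank_eq
  have h4 := K932.P1Deg.subsingleton_twist_one Ω 0 (by norm_num)
  rw [(Groth.Agent.VarietyA.EulerLES.equivA Ω ε 1).finrank_eq, ← h2]
  refine h3.trans ?_
  exact Module.finrank_zero_of_subsingleton

/-- The degree on a curve isomorphic to the projective line of a module isomorphic to `O(1)`. -/
theorem deg_p1 {L : X.Modules} (hL : Nonempty (L ≅ (Scheme.Modules.pullback e.hom).obj (O1 1 Ω))) :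
    letI : X.Over (Spec (CommRingCat.of Ω)) := ⟨q⟩; Curv2.deg Ω X L 1 = 1 := by
  letI : X.Over (Spec (CommRingCat.of Ω)) := ⟨q⟩
  rw [← Groth.Agent.VarietyB.DegPhi.phi_unit]
  exact K932.P1Deg.phi_p1 Ω e he hL (K932.P1Deg.unit_pull Ω e)

end P1

section Points

/-- The nonvanishing locus of a coordinate on projective space. -/
noncomputable abbrev dl (n : ℕ) (R : Type u) [CommRing R] (a : Fin (n + 1)) : (CohB1.ProjSpace n R).Opens :=
  CohB1.genLocus (O1 n R) (homOf (cd n R a))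

theorem preimage_dl {X : Scheme.{u}} {n : ℕ} {R : Type u} [CommRing R] {r : X ⟶ CohB1.ProjSpace n R} {M : X.Modules}
    {s : Fin (n + 1) → Γ(M, ⊤)} (h : GivenBy r M s) (a : Fin (n + 1)) :
    r ⁻¹ᵁ (dl n R a) = CohB1.genLocus M (homOf (s a)) := by
  obtain ⟨τ, hτ⟩ := h
  have h1 := genLocus_app τ (tsec r a)
  have h2 := genLocus_pullTop r (isInvertible_O1 n R) (cd n R a)
  rw [← hτ a]
  exact h2.symm.trans h1.symm

variable {T : Scheme.{u}}

theorem mem_genLocus_crd (x : P1 T) (a : Fin (1 + 1)) :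
    x ∈ CohB1.genLocus (N T) (homOf (crd 1 T a)) ↔ (toZ 1 T) x ∈ dl 1 Z.{u} a :=
  (SetLike.ext_iff.1 (preimage_dl (GivenBy.refl (toZ 1 T)) a) x).symm

/-- A geometric fibre of the projective line has a point where the first coordinate is invertible and one
where it vanishes. -/
theorem exists_points {Ω : Type u} [Field Ω] {t : Spec (CommRingCat.of Ω) ⟶ T} {Xt : Scheme.{u}} {i : Xt ⟶ P1 T}
    {q : Xt ⟶ Spec (CommRingCat.of Ω)} (hP : IsPullback i q (pr T) t) :
    ∃ x y : Xt, i x ∈ CohB1.genLocus (N T) (homOf (crd 1 T 0)) ∧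
      i y ∉ CohB1.genLocus (N T) (homOf (crd 1 T 0)) := by
  have hone : ∀ X : Scheme.{u}, CohB1.genLocus _ (homOf (one (⊤ : X.Opens))) = ⊤ := by
    intro X
    rw [eq_top_iff, le_genLocus_iff, sec_homOf, res_refl]
    exact isGen_one ⊤
  obtain ⟨r1, h1⟩ := exists_givenBy' (X := Spec (CommRingCat.of Ω))
    (M := Coh.structureModule _) (![0, one ⊤] : Fin (1 + 1) → _) (by
    rw [eq_top_iff]
    refine le_trans ?_ (le_iSup _ (1 : Fin (1 + 1)))
    exact (hone _).ge)
  let x : Spec (CommRingCat.of Ω) ⟶ Xt := hP.lift (t ≫ pt T) (𝟙 _)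
    (by rw [Category.assoc, pt_pr, Category.comp_id, Category.id_comp])
  let y : Spec (CommRingCat.of Ω) ⟶ Xt := hP.lift (liftP r1 t) (𝟙 _)
    (by rw [liftP_toBase, Category.id_comp])
  have hx : x ≫ i = t ≫ pt T := hP.lift_fst _ _ _
  have hy : y ≫ i = liftP r1 t := hP.lift_fst _ _ _
  have hx' : x ≫ i ≫ toZ 1 T = (t ≫ specULiftZIsTerminal.from T) ≫ pt0 := by
    rw [← Category.assoc, hx, Category.assoc, pt_toZ, ← Category.assoc]
  have hy' : y ≫ i ≫ toZ 1 T = r1 := by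
    rw [← Category.assoc, hy, liftP_toZ]
  let z : Spec (CommRingCat.of Ω) := IsLocalRing.closedPoint Ω
  refine ⟨x z, y z, ?_, ?_⟩
  · rw [mem_genLocus_crd]
    change (x ≫ i ≫ toZ 1 T) z ∈ dl 1 Z.{u} 0
    rw [hx']
    have h2 := preimage_dl givenBy_pt0.{u} 0
    have h3 : CohB1.genLocus _ (homOf ((![one ⊤, 0] : Fin (1 + 1) →
        Γ(Coh.structureModule (Spec (CommRingCat.of (ULift.{u} ℤ))), ⊤)) 0)) = ⊤ := hone _
    exact (h2.trans h3).ge (show (t ≫ specULiftZIsTerminal.from T) z ∈ (⊤ : TopologicalSpace.Opens _) from trivial)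
  · rw [mem_genLocus_crd]
    change (y ≫ i ≫ toZ 1 T) z ∉ dl 1 Z.{u} 0
    rw [hy']
    intro h2
    have h3 : z ∈ r1 ⁻¹ᵁ (dl 1 Z.{u} 0) := h2
    rw [preimage_dl h1 0] at h3
    have h4 : (![0, one ⊤] : Fin (1 + 1) → Γ(Coh.structureModule (Spec (CommRingCat.of Ω)), ⊤)) 0 = 0 := rfl
    rw [h4] at h3
    have h5 := genLocus_inf_eq (homOf (0 : Γ(Coh.structureModule (Spec (CommRingCat.of Ω)), ⊤)))
      (isGen_one ⊤) (a := 0) (by rw [sec_homOf, res_refl, zero_smul])
    have h6 : z ∈ (Spec (CommRingCat.of Ω)).basicOpen (0 : Γ(Spec (CommRingCat.of Ω), ⊤)) := by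
      rw [← h5]
      exact ⟨h3, trivial⟩
    rw [Scheme.basicOpen_zero] at h6
    exact h6

end Points

section Main

variable {T : Scheme.{u}}

theorem flat_pr : Flat (pr T) := by
  have h := Groth.Agent.Sga5.ProjSmooth.smooth_toSpec 1 (ULift.{u} ℤ)
  have : Smooth (CohB1.ProjSpace.toSpec 1 (ULift.{u} ℤ)) := SmoothOfRelativeDimension.smooth 1 _
  exact MorphismProperty.of_isPullback (P := @Flat) (isPullback_toZ 1 T) inferInstance

theorem isProper_pr : IsProper (pr T) :=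
  MorphismProperty.of_isPullback (P := @IsProper) (isPullback_toZ 1 T)
    (Groth.Agent.Ega3B.ProjProper.isProper_toSpec 1 _)

theorem lfp_pr : LocallyOfFinitePresentation (pr T) := by
  have h := Groth.Agent.Sga5.ProjSmooth.smooth_toSpec 1 (ULift.{u} ℤ)
  have : Smooth (CohB1.ProjSpace.toSpec 1 (ULift.{u} ℤ)) := SmoothOfRelativeDimension.smooth 1 _
  exact MorphismProperty.of_isPullback (P := @LocallyOfFinitePresentation) (isPullback_toZ 1 T) inferInstance

/-- A marked point is closed. -/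
theorem isClosed_markedPt {n : ℕ} {C : Scheme.{u}} {f : C ⟶ T} {σ : Fin n → (T ⟶ C)} (hσ : ∀ i, σ i ≫ f = 𝟙 T)
    {Ω : Type u} [Field Ω] {t : Spec (CommRingCat.of Ω) ⟶ T} {X' : Scheme.{u}}
    {i : X' ⟶ C} {q : X' ⟶ Spec (CommRingCat.of Ω)} [IsProper q] (hP : IsPullback i q f t) (j : Fin n) :
    IsClosed ({CurvSt.markedPt σ hσ hP j} : Set X') := by
  let x := hP.lift (t ≫ σ j) (𝟙 _) (by rw [Category.assoc, hσ, Category.comp_id, Category.id_comp])
  have hx : x ≫ q = 𝟙 _ := hP.lift_snd _ _ _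
  have hc : IsClosedImmersion x := by
    have : IsClosedImmersion (x ≫ q) := by rw [hx]; infer_instance
    exact IsClosedImmersion.of_comp x q
  have h1 : ({CurvSt.markedPt σ hσ hP j} : Set X') = Set.range x := by
    ext y
    constructor
    · rintro rfl
      exact ⟨IsLocalRing.closedPoint Ω, rfl⟩
    · rintro ⟨z, rfl⟩
      have : z = IsLocalRing.closedPoint Ω := Subsingleton.elim _ _
      rw [this]
      rfl
  rw [h1]
  exact x.isClosedEmbedding.isClosed_range

variable {k : Type u} [Field k] {n d : ℕ}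

/-- Node A. -/
theorem isStable_std (G : LefPen.Form n k d)
    (m : P1 T ⟶ (hypOver G).left) (v c : Fin (n + 1) → Γ(T, ⊤)) (i j : Fin (n + 1)) (hv : v i = 1) (hc : c i = 0)
    (_hcj : c j = 1) (h : GivenBy (m ≫ (LefPen.hypIdeal G).subschemeι) (N T) (lsec v c)) :
    StMap.IsStableMapFam (pr T) (fun _ : Fin 1 => pt T) (fun _ => pt_pr) m 0 ∧
      StMap.IsFibDeg (pr T) m (hypO1 G) 1 := by
  refine ⟨⟨flat_pr, isProper_pr, lfp_pr, ?_⟩, ?_⟩
  · intro Ω _ _ t Xt ι q hP
    obtain ⟨e, he, -⟩ := exists_fibIso hP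
    have hirr : IrreducibleSpace Xt := irreducibleSpace_p1 e
    have hprop : IsProper q := isProper_p1 e he
    have hsm : Smooth q := smooth_p1 e he
    have hnc : ¬ (Set.range (ι ≫ m).base).Subsingleton := by
      intro hs
      obtain ⟨x, y, hx, hy⟩ := exists_points hP
      have h1 : (ι ≫ m) x = (ι ≫ m) y := hs ⟨x, rfl⟩ ⟨y, rfl⟩
      have h2 : lsec v c i = crd 1 T 0 := by
        rw [lsec, hv, hc, map_one, map_zero, one_smul, zero_smul, add_zero]
      have h3 := preimage_dl h i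
      rw [h2] at h3
      rw [← h3] at hx hy
      apply hy
      change (m ≫ (LefPen.hypIdeal G).subschemeι) (ι y) ∈ dl n k i
      change (m ≫ (LefPen.hypIdeal G).subschemeι) (ι x) ∈ dl n k i at hx
      rw [Scheme.Hom.comp_apply] at hx ⊢
      rw [Scheme.Hom.comp_apply, Scheme.Hom.comp_apply] at h1
      rw [← h1]
      exact hx
    refine ⟨⟨hprop, inferInstance, dim_p1 e, ⟨fun _ _ => Or.inl ⟨⊤, trivial, ?_⟩, genus_p1 e he⟩,
      Function.injective_of_subsingleton _, fun a => ⟨isClosed_markedPt _ hP a, ⊤, trivial, inferInstance⟩⟩, ?_,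
      fun h => (hnc h).elim⟩
    · change Smooth (_ ≫ q)
      infer_instance
    · intro E hE hsub
      refine (hnc ?_).elim
      have hE' := hE.1
      rw [irreducibleComponents_eq_singleton, Set.mem_singleton_iff] at hE'
      rw [hE', Set.image_univ] at hsub
      exact hsub
  · intro Ω _ _ t Xt ι q hP
    obtain ⟨e, he, ⟨τ, -⟩⟩ := exists_fibIso hP
    obtain ⟨τ', -⟩ := h
    refine deg_p1 e he ⟨?_⟩
    exact (Scheme.Modules.pullbackComp ι m).symm.app _ ≪≫
      (Scheme.Modules.pullback ι).mapIso ((Scheme.Modules.pullbackComp m _).app _ ≪≫ τ') ≪≫ τ.symm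

end Main

end K655.StdStable
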