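import Groth.Agent.Fano.K655.CrvRep
import Groth.Agent.Fano.K505.KonDef
import Groth.Agent.CurvSt.K316.MbarAlg
import Groth.Agent.CurvSt.K740.DiagAll
import Groth.Agent.CurvSt.K896.MbarFinal
import Groth.Agent.AlgSt.K738.Open1
import Groth.Agent.AlgSt.K743.SetUp
import Groth.Agent.AlgSt.K748.SmOver
import Groth.Agent.AlgSt.K600.EtChart

/-!
# Étale charts of the stack of prestable pointed curves of genus zero, from the stack of stable curves

* `exists_prod_pre` : the product of a separated étale chart of `Mbar` with every prestable family;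
* `exists_crvChart` : every stable pointed curve of genus `0` over an algebraically closed field over `k` comes from a chart
  `CrvChart k N` which is stable, with base smooth over `k`.
-/

set_option autoImplicit false
set_option backward.isDefEq.respectTransparency false
set_option backward.isDefEq.respectTransparency.types false

universe u

open CategoryTheory CategoryTheory.Limits AlgebraicGeometry Opposite CurvSt

namespace K655.CrvMbar

open K896.MbarFam K896.MbarSmooth K740.Prod K606.YonSec K505.KonDef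

/-- The diagonal of the stack of stable curves is separated. -/
theorem diag_mbar (S : Scheme.{u}) {g n : ℕ} (hg : 3 ≤ 2 * g + n) :
    AlgSt.RepByAlgSpWith AlgSp.IsSeparatedMor (FibCat.diag (FibCat.toSelf (Mbar S g n))) := by
  refine (K740.Inv.repByAlgSpWith_diagSelf_iff _ (K316.MbarAlg.isEquivOver_mbar S hg)).2 ?_
  exact K738.OSub.repByAlgSpWith_diag_fullSub _
    (K738.repByAlgSpWith_mono (K740.CurvAlg.diag_sep_fp S n) fun _ h => h.1)
    fun φ h => K898.MbarEq.geomFib_of_hom φ.hom h

theorem isFibGrpd_mbar (S : Scheme.{u}) {g n : ℕ} (hg : 3 ≤ 2 * g + n) : FibCat.IsFibGrpd (Mbar S g n).p :=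
  (K316.MbarAlg.isAlgStack_mbar S hg).isStack.1

variable {S : Scheme.{u}} {g n : ℕ}

/-- A family mapping to a stable family is stable. -/
theorem stable_of_hom {A B : PtFamObj S n} (φ : A ⟶ B) (h : IsStableFam B.f B.sect B.sect_f g) :
    IsStableFam A.f A.sect A.sect_f g :=
  isStableFam_of_isPullback A.sect_f h φ.cart φ.w_sect

/-- The base change of a family to an open subscheme of the base is a monomorphism. -/
theorem bcHom_mono (A : PtFamObj S n) {T : Scheme.{u}} (e : T ⟶ A.base.left) [Mono e] {Z : PtFamObj S n}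
    {a b : Z ⟶ bcObj A e} (h : a ≫ bcHom A e = b ≫ bcHom A e) : a = b := by
  have h1 : a.base.left = b.base.left := by
    have h2 := congrArg (fun (φ : Z ⟶ A) => φ.base.left) h
    exact (cancel_mono e).1 h2
  have h1' : a.base = b.base := Over.OverMorphism.ext h1
  refine PtFamObj.hom_ext h1' ?_
  refine (bcHom A e).cart.hom_ext ?_ ?_
  · exact congrArg (fun (φ : Z ⟶ A) => φ.top) h
  · rw [a.cart.w, b.cart.w, h1]

/-- Morphisms to a family whose base morphism factors through `e` factor through the base change. -/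
theorem exists_lift_bc (A : PtFamObj S n) {T : Scheme.{u}} (e : T ⟶ A.base.left) {Z : PtFamObj S n}
    (b : Z ⟶ A) (l : Z.base.left ⟶ T) (hl : l ≫ e = b.base.left) : ∃ c : Z ⟶ bcObj A e, c ≫ bcHom A e = b := by
  let c : Z ⟶ bcObj A e :=
    { base := Over.homMk l (by
        change l ≫ e ≫ A.base.hom = _
        rw [reassoc_of% hl]
        exact Over.w b.base)
      top := pullback.lift b.top (Z.f ≫ l) (by rw [b.cart.w, Category.assoc, hl])
      cart := by
        refine IsPullback.of_right (h₁₂ := pullback.fst A.f e) (v₁₃ := A.f) (h₂₂ := e) ?_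
          (pullback.lift_snd _ _ _) (IsPullback.of_hasPullback A.f e)
        rw [pullback.lift_fst]
        change IsPullback b.top Z.f A.f (l ≫ e)
        rw [hl]
        exact b.cart
      w_sect := fun i => by
        apply pullback.hom_ext
        · rw [Category.assoc, pullback.lift_fst, b.w_sect, Category.assoc]
          change _ = l ≫ pullback.lift _ _ _ ≫ pullback.fst A.f e
          rw [pullback.lift_fst, reassoc_of% hl]
        · rw [Category.assoc, pullback.lift_snd, reassoc_of% (Z.sect_f i), Category.assoc]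
          change _ = l ≫ pullback.lift _ _ _ ≫ pullback.snd A.f e
          rw [pullback.lift_snd]
          exact (Category.comp_id l).symm }
  refine ⟨c, PtFamObj.hom_ext (Over.OverMorphism.ext hl) (pullback.lift_fst _ _ _)⟩

/-- **The product of an étale chart of `Mbar` with every flat proper family.** -/
theorem exists_prod_fam (hg : 3 ≤ 2 * g + n) {U : Over S} (hU : IsSeparated U.hom)
    {x : FibCat.overCat U ⥤ᵇ Mbar S g n} (hx : AlgSt.RepByAlgSpWith AlgSp.IsEtaleMor x) (Y : PtFamObj S n)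
    [Flat Y.f] [IsProper Y.f] [LocallyOfFinitePresentation Y.f] :
    ∃ (Z : PtFamObj S n) (α : Z ⟶ (x.obj (K734.Fib.one U)).obj) (β : Z ⟶ Y),
      (∀ (Z' : PtFamObj S n) (a : Z' ⟶ (x.obj (K734.Fib.one U)).obj) (b : Z' ⟶ Y),
        ∃! z : Z' ⟶ Z, z ≫ α = a ∧ z ≫ β = b) ∧ Etale β.base.left := by
  let W : Y.base.left.Opens := ⟨_, K333.StableOpen.isOpen_stable Y.f Y.sect Y.sect_f g⟩
  let Y₀ : PtFamObj S n := bcObj Y W.ι
  have hpb := IsPullback.of_hasPullback Y.f W.ι
  have hY₀ : IsStableFam Y₀.f Y₀.sect Y₀.sect_f g := by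
    refine ⟨MorphismProperty.of_isPullback hpb inferInstance, MorphismProperty.of_isPullback hpb inferInstance,
      MorphismProperty.of_isPullback hpb inferInstance, fun Ω _ _ t X i q hP => ?_⟩
    have hP' : IsPullback (i ≫ (bcHom Y W.ι).top) q Y.f (t ≫ W.ι) := hP.paste_horiz (bcHom Y W.ι).cart
    rw [markedPt_congr_fun Y₀.sect_f Y.sect_f hP hP' (bcHom Y W.ι).top rfl
      fun j => by rw [(bcHom Y W.ι).w_sect, Category.assoc]; rfl]
    refine (K333.StableOpen.isStablePtd_iff Y.f Y.sect Y.sect_f g hP').2 ?_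
    exact (t.base (IsLocalRing.closedPoint Ω)).2
  let ζ : (Mbar S g n).obj := ⟨Y₀, hY₀⟩
  obtain ⟨ρ, a, b, hab, he⟩ := K655.CrvRep.exists_prod (isFibGrpd_mbar S hg) (diag_mbar S hg) hU hx ζ
  refine ⟨ρ.obj, b.hom, a.hom ≫ bcHom Y W.ι, ?_, ?_⟩
  · intro Z' a' b'
    have hZ' : IsStableFam Z'.f Z'.sect Z'.sect_f g := stable_of_hom a' (x.obj (K734.Fib.one U)).property
    -- `b'` factors through the stable locus
    have hr : Set.range b'.base.left ⊆ Set.range W.ι := by
      rintro _ ⟨z, rfl⟩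
      rw [Scheme.Opens.range_ι]
      obtain ⟨Ω, _, _, t, rfl⟩ := K898.StabFam.exists_geometric_point Z'.base.left z
      have hP := IsPullback.of_hasPullback Z'.f t
      have h1 := hZ'.2.2.2 Ω t _ _ _ hP
      have hP' := hP.paste_horiz b'.cart
      rw [markedPt_congr_fun Z'.sect_f Y.sect_f hP hP' b'.top rfl
        fun j => by rw [b'.w_sect, Category.assoc]] at h1
      have h2 := (K333.StableOpen.isStablePtd_iff Y.f Y.sect Y.sect_f g hP').1 h1
      exact h2
    obtain ⟨c, hc⟩ := exists_lift_bc Y W.ι b' (IsOpenImmersion.lift W.ι b'.base.left hr)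
      (IsOpenImmersion.lift_fac _ _ _)
    let ζ' : (Mbar S g n).obj := ⟨Z', hZ'⟩
    obtain ⟨z, ⟨hz1, hz2⟩, hz3⟩ := hab ζ' (ObjectProperty.homMk c) (ObjectProperty.homMk a')
    refine ⟨z.hom, ⟨congrArg (fun w => w.hom) hz2, ?_⟩, ?_⟩
    · have h1 : z.hom ≫ a.hom = c := congrArg (fun w => w.hom) hz1
      change z.hom ≫ a.hom ≫ bcHom Y W.ι = b'
      rw [← Category.assoc, h1, hc]
    · rintro z' ⟨h1, h2⟩
      have h3 : z' ≫ a.hom = c := by
        apply bcHom_mono Y W.ι
        rw [Category.assoc, h2, hc]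
      have h4 : (ObjectProperty.homMk z' : ζ' ⟶ ρ) = z := hz3 _ ⟨InducedCategory.hom_ext h3, InducedCategory.hom_ext h1⟩
      exact congrArg (fun w => w.hom) h4
  · have he' : Etale a.hom.base.left := he
    change Etale (a.hom.base.left ≫ W.ι)
    infer_instance

section Charts

variable {k : Type u} [Field k] {N : ℕ}

theorem le_of (hN : 3 ≤ N) : 3 ≤ 2 * 0 + N := by omega

/-- The chart of the stack of prestable curves of genus zero given by an affine étale chart of `Mbar`. -/
noncomputable def ofChart (hN : 3 ≤ N) {U : Over (Spec (CommRingCat.of k))} (hU : IsAffine U.left)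
    {x : FibCat.overCat U ⥤ᵇ Mbar (Spec (CommRingCat.of k)) 0 N} (hx : AlgSt.RepByAlgSpWith AlgSp.IsEtaleMor x) :
    CrvChart k N where
  B := (x.obj (K734.Fib.one U)).obj
  isPre := by
    obtain ⟨h1, h2, h3, h4⟩ := (x.obj (K734.Fib.one U)).property
    refine ⟨h1, h2, h3, fun Ω _ _ t X i q hP => ?_⟩
    have h := h4 Ω t X i q hP
    exact ⟨h.1, h.2.1, h.2.2.1, h.2.2.2.1, h.2.2.2.2.1, h.2.2.2.2.2.1⟩
  isAffine := by
    have h : (x.obj (K734.Fib.one U)).obj.base = U := x.w_obj (K734.Fib.one U)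
    rw [h]
    exact hU
  locallyOfFiniteType := by
    have h : (x.obj (K734.Fib.one U)).obj.base = U := x.w_obj (K734.Fib.one U)
    rw [h]
    have h1 : Smooth U.hom := K748.SmOver.smooth_hom_of_locQ (isFibGrpd_mbar _ (le_of hN))
      (K896.MbarFinal.locQ_smooth_mbar _ (le_of hN)) x (K600.EtChart.smooth_of_etale hx)
    infer_instance
  prod Y hY := by
    obtain ⟨h1, h2, h3, -⟩ := hY
    exact exists_prod_fam (le_of hN) (inferInstance : IsSeparated U.hom) hx Y

theorem ofChart_B (hN : 3 ≤ N) {U : Over (Spec (CommRingCat.of k))} (hU : IsAffine U.left)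
    {x : FibCat.overCat U ⥤ᵇ Mbar (Spec (CommRingCat.of k)) 0 N} (hx : AlgSt.RepByAlgSpWith AlgSp.IsEtaleMor x) :
    (ofChart hN hU hx).B = (x.obj (K734.Fib.one U)).obj := rfl

/-- The base of the chart is smooth. -/
theorem smooth_ofChart (hN : 3 ≤ N) {U : Over (Spec (CommRingCat.of k))} (hU : IsAffine U.left)
    {x : FibCat.overCat U ⥤ᵇ Mbar (Spec (CommRingCat.of k)) 0 N} (hx : AlgSt.RepByAlgSpWith AlgSp.IsEtaleMor x) :
    Smooth (ofChart hN hU hx).U.hom := by
  have h : (ofChart hN hU hx).U = U := x.w_obj (K734.Fib.one U)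
  rw [h]
  exact K748.SmOver.smooth_hom_of_locQ (isFibGrpd_mbar _ (le_of hN))
    (K896.MbarFinal.locQ_smooth_mbar _ (le_of hN)) x (K600.EtChart.smooth_of_etale hx)

/-- Every stable curve over an algebraically closed field comes from an affine étale chart. -/
theorem exists_hom_chart (hN : 3 ≤ N) {Ω : Type u} [Field Ω] [IsAlgClosed Ω]
    (A : PtFamObj (Spec (CommRingCat.of k)) N) (hA : IsStableFam A.f A.sect A.sect_f 0)
    (e : A.base.left ≅ Spec (CommRingCat.of Ω)) :
    ∃ (U : Over (Spec (CommRingCat.of k))) (hU : IsAffine U.left)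
      (x : FibCat.overCat U ⥤ᵇ Mbar (Spec (CommRingCat.of k)) 0 N) (hx : AlgSt.RepByAlgSpWith AlgSp.IsEtaleMor x),
      Nonempty (A ⟶ (ofChart hN hU hx).B) := by
  have hF := isFibGrpd_mbar (Spec (CommRingCat.of k)) (le_of hN)
  obtain ⟨U₀, x₀, h1, h2⟩ := (K316.MbarAlg.isDM_mbar (Spec (CommRingCat.of k)) (le_of hN)).2
  -- replace the base by `Spec Ω`
  let s : Spec (CommRingCat.of Ω) ⟶ Spec (CommRingCat.of k) := e.inv ≫ A.base.hom
  let A₁ : PtFamObj (Spec (CommRingCat.of k)) N :=
    { base := Over.mk s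
      C := A.C
      f := A.f ≫ e.hom
      sect := fun i => e.inv ≫ A.sect i
      sect_f := fun i => by
        change (e.inv ≫ A.sect i) ≫ A.f ≫ e.hom = 𝟙 _
        rw [Category.assoc, reassoc_of% (A.sect_f i), e.inv_hom_id] }
  let φ : A ⟶ A₁ :=
    { base := Over.homMk e.hom (by
        change e.hom ≫ e.inv ≫ A.base.hom = _
        rw [e.hom_inv_id_assoc])
      top := 𝟙 _
      cart := by
        have h : IsPullback (𝟙 A.C) A.f (A.f ≫ e.hom) e.hom := IsPullback.of_horiz_isIso ⟨Category.id_comp _⟩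
        exact h
      w_sect := fun i => by
        rw [Category.comp_id]
        change _ = e.hom ≫ e.inv ≫ A.sect i
        rw [e.hom_inv_id_assoc] }
  let ψ : A₁ ⟶ A :=
    { base := Over.homMk e.inv rfl
      top := 𝟙 _
      cart := by
        have h : IsPullback (𝟙 A.C) (A.f ≫ e.hom) A.f e.inv := IsPullback.of_horiz_isIso ⟨by
          rw [Category.id_comp, Category.assoc, e.hom_inv_id, Category.comp_id]⟩
        exact h
      w_sect := fun i => Category.comp_id _ }
  have hA₁ : IsStableFam A₁.f A₁.sect A₁.sect_f 0 := stable_of_hom ψ hA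
  let ξ : (Mbar (Spec (CommRingCat.of k)) 0 N).obj := ⟨A₁, hA₁⟩
  obtain ⟨V, hV, z, hz, v, ⟨i⟩⟩ := K743.SetUp.exists_lift hF x₀ h1 h2 (K735.Fp.yonF hF ξ (U := Over.mk s) rfl)
  refine ⟨V, hV, z, hz, ?_⟩
  let a : ξ ⟶ (K735.Fp.yonF hF ξ (U := Over.mk s) rfl).obj (K735.Fp.idObj _) := (K735.Fp.yonFIso hF ξ rfl).inv
  let b := (K735.Fib.isoApp i (K735.Fp.idObj (Over.mk s))).inv
  let m : (AlgSt.overMap v).obj (K735.Fp.idObj (Over.mk s)) ⟶ K734.Fib.one V := Over.homMk (𝟙 _ ≫ v) (by
    change (𝟙 _ ≫ v) ≫ 𝟙 _ = _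
    rw [Category.comp_id]
    rfl)
  exact ⟨φ ≫ a.hom ≫ b.hom ≫ (z.map m).hom⟩

end Charts

end K655.CrvMbar
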