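import Groth.Agent.AlgSt.K743.DiagQA
import Groth.Agent.StMod.K906.SpanRep
import Groth.Agent.AlgSt.K740.SpIso
import Groth.Agent.AlgSt.K740.ProdPair
import Groth.Agent.AlgSt.K746.DiagFin
import Groth.Agent.AlgSt.K736.GenInertia
import Groth.Agent.AlgSp.K638.QfNhd
import Groth.Agent.S10259
import Groth.Agent.S10265

/-!
# Separated étale charts are representable by schemes

* `isSeparated_of_diag` : a functor `(Sch/U) ⟶ 𝒳` is separated when `U` is separated over `S` and the diagonal of `𝒳` is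
  separated;
* `exists_prod` : an étale chart `x : (Sch/U) ⟶ 𝒳` of a category fibred in groupoids with separated diagonal, `U` separated
  over `S`: the product in `𝒳` of `x(U)` with every object exists, with étale projection.
-/

set_option autoImplicit false
set_option backward.isDefEq.respectTransparency false
set_option backward.isDefEq.respectTransparency.types false

universe u

open CategoryTheory CategoryTheory.Limits AlgebraicGeometry Opposite AlgSp

namespace K655.CrvRep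

open K734.Fib K906.Span K906 K740.Prod K606.YonSec

variable {S : Scheme.{u}} {𝒳 : AlgSt.Cat S}

theorem isStableUnderComposition_sep : (AlgSp.IsSeparatedMor (S := S)).IsStableUnderComposition :=
  ⟨fun _ _ h1 h2 => K638.QfNhd.separated_comp h1 h2⟩

/-- A functor from the slice of a separated scheme is separated when the diagonal is separated. -/
theorem isSeparated_of_diag (h𝒳 : FibCat.IsFibGrpd 𝒳.p)
    (hd : AlgSt.RepByAlgSpWith AlgSp.IsSeparatedMor (FibCat.diag (FibCat.toSelf 𝒳))) {U : Over S}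
    (hU : IsSeparated U.hom) (z : FibCat.overCat U ⥤ᵇ 𝒳) : AlgSt.RepByAlgSpWith AlgSp.IsSeparatedMor z := by
  have := K746.DiagFin.isSeparatedMor_respectsIso (S := S)
  have := isStableUnderComposition_sep (S := S)
  refine K743.DiagQA.with_of_diag z h𝒳 AlgSp.IsSeparatedMor hd fun T => ?_
  rw [AlgSp.isSeparatedMor_yon_map_iff]
  exact MorphismProperty.of_isPullback (P := @IsSeparated) (K743.DiagQA.isPullback_left T U).flip hU

/-- The product of a separated étale chart with every object. -/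
theorem exists_prod_of_rep (h𝒳 : FibCat.IsFibGrpd 𝒳.p) {U : Over S} {x : FibCat.overCat U ⥤ᵇ 𝒳}
    (hx : AlgSt.RepByAlgSpWith (AlgSp.IsEtaleMor ⊓ AlgSp.IsSeparatedMor) x) (ζ : 𝒳.obj) :
    ∃ (ρ : 𝒳.obj) (a : ρ ⟶ ζ) (b : ρ ⟶ x.obj (one U)), IsProd a b ∧ Etale (𝒳.p.map a).left := by
  obtain ⟨F, π, R, ⟨he, hs⟩, hR⟩ := exists_spanRep_atlas h𝒳 hx ζ
  have hlqf := (Groth.Agent.S10265.result (S := S) (X := F) (Y := ⟨_, AlgSp.IsAlgSpace.yon_obj (𝒳.p.obj ζ)⟩)
    (ObjectProperty.homMk π) he).1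
  obtain ⟨A, ⟨i⟩⟩ := K613.exists_iso_of_lqf F.property π hlqf hs
  obtain ⟨ρ, a, b, e, he'⟩ := R.surj (sec i.hom)
  subst e
  have hsec : R.sec a b = sec i.hom := by
    rw [← he']
    exact (K606.YonSec.map_id _).symm
  have hof : ofSec (R.sec a b) = i.hom := by rw [hsec, ofSec_sec]
  have hinj : ∀ {T : Over S} (g g' : T ⟶ 𝒳.p.obj ρ), F.obj.obj.map g.op (R.sec a b) = F.obj.obj.map g'.op (R.sec a b) →
      g = g' := by
    intro T g g' h
    have h1 : (yon S).map g ≫ i.hom = (yon S).map g' ≫ i.hom := by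
      rw [← hof, map_comp_ofSec, map_comp_ofSec, h]
    exact (yon S).map_injective ((cancel_mono i.hom).1 h1)
  refine ⟨ρ, a, b, ?_, ?_⟩
  · intro ζ' a' b'
    let g : 𝒳.p.obj ζ' ⟶ 𝒳.p.obj ρ := dn (i.inv.hom.app _ (R.sec a' b'))
    have hg : F.obj.obj.map g.op (R.sec a b) = R.sec a' b' := by
      have h1 : i.hom.hom.app _ (i.inv.hom.app _ (R.sec a' b')) = R.sec a' b' := by
        rw [← comp_app, i.inv_hom_id]
        rfl
      rw [hsec, ← app_up]
      exact h1
    obtain ⟨c, hc1, hc2, hc3⟩ := R.full a b a' b' g hg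
    refine ⟨c, ⟨hc2, hc3⟩, ?_⟩
    rintro c' ⟨h1, h2⟩
    refine Grpd.hom_ext h𝒳 a ?_ (h1.trans hc2.symm)
    rw [hc1]
    apply hinj
    rw [R.map, h1, h2, hg]
  · have := K736.GenInertia.respectsIso_etale (S := S)
    rw [← AlgSp.isEtaleMor_yon_map_iff]
    have h1 : i.hom ≫ π = (yon S).map (𝒳.p.map a) := by
      rw [← hof, ofSec_comp, hR, ofSec_up]
    rw [← h1]
    exact (MorphismProperty.cancel_left_of_respectsIso (AlgSp.IsEtaleMor (S := S)) i.hom π).2 he

/-- **The product of an étale chart with every object**, for a stack with separated diagonal. -/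
theorem exists_prod (h𝒳 : FibCat.IsFibGrpd 𝒳.p)
    (hd : AlgSt.RepByAlgSpWith AlgSp.IsSeparatedMor (FibCat.diag (FibCat.toSelf 𝒳))) {U : Over S}
    (hU : IsSeparated U.hom) {x : FibCat.overCat U ⥤ᵇ 𝒳} (hx : AlgSt.RepByAlgSpWith AlgSp.IsEtaleMor x) (ζ : 𝒳.obj) :
    ∃ (ρ : 𝒳.obj) (a : ρ ⟶ ζ) (b : ρ ⟶ x.obj (one U)), IsProd a b ∧ Etale (𝒳.p.map a).left := by
  have := K746.DiagFin.isSeparatedMor_respectsIso (S := S)
  exact exists_prod_of_rep h𝒳 (K740.SpIso.repByAlgSpWith_inf hx (isSeparated_of_diag h𝒳 hd hU x)) ζ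

end K655.CrvRep
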